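import Mathlib

set_option autoImplicit false
universe u v w

open scoped TensorProduct

namespace Groth.Agent.GalPerm8

variable {K : Type u} {L : Type v} [Field K] [Field L] [Algebra K L] [IsGalois K L]

theorem exists_fixed_vector {V : Type w} [AddCommGroup V] [Module K V] (T : Submodule L (L ⊗[K] V))
    (hT : ∀ (σ : L ≃ₐ[K] L), ∀ x ∈ T, (σ.toLinearMap.rTensor V) x ∈ T) (hne : T ≠ ⊥) :
    ∃ v : V, v ≠ 0 ∧ (1 : L) ⊗ₜ[K] v ∈ T := by
  classical
  let b := Module.Free.chooseBasis K V
  let B := Algebra.TensorProduct.basis L b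
  have hσ : ∀ (σ : L ≃ₐ[K] L) (x : L ⊗[K] V) i, B.repr (σ.toLinearMap.rTensor V x) i = σ (B.repr x i) := by
    intro σ x i
    induction x using TensorProduct.induction_on with
    | zero => simp
    | tmul l v => simp [B, Algebra.smul_def]
    | add p q hp hq => simp [hp, hq]
  suffices ∀ N, ∀ x ∈ T, (B.repr x).support.card = N → x ≠ 0 → ∃ v : V, v ≠ 0 ∧ (1 : L) ⊗ₜ[K] v ∈ T by
    obtain ⟨x, hx, hx0⟩ := Submodule.exists_mem_ne_zero_of_ne_bot hne
    exact this _ x hx rfl hx0
  intro N
  induction N using Nat.strong_induction_on with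
  | _ N IH =>
  intro x hx hN hx0
  obtain ⟨i₀, hi₀⟩ : (B.repr x).support.Nonempty := by
    rw [Finsupp.support_nonempty_iff]
    exact fun h => hx0 (B.repr.map_eq_zero_iff.mp h)
  have hc : B.repr x i₀ ≠ 0 := Finsupp.mem_support_iff.mp hi₀
  set y := (B.repr x i₀)⁻¹ • x with hy
  have hyT : y ∈ T := T.smul_mem _ hx
  have hyi : B.repr y i₀ = 1 := by rw [hy, map_smul, Finsupp.smul_apply, smul_eq_mul, inv_mul_cancel₀ hc]
  have hy0 : y ≠ 0 := fun h => by rw [h] at hyi; simp at hyi
  by_cases hfix : ∀ (σ : L ≃ₐ[K] L) i, σ (B.repr y i) = B.repr y i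
  · choose k hk using fun i => IntermediateField.mem_bot.mp ((InfiniteGalois.mem_bot_iff_fixed _).mpr fun σ => hfix σ i)
    refine ⟨∑ i ∈ (B.repr y).support, k i • b i, ?_, ?_⟩
    all_goals
      have he : (1 : L) ⊗ₜ[K] (∑ i ∈ (B.repr y).support, k i • b i) = y := by
        conv_rhs => rw [← B.linearCombination_repr y, Finsupp.linearCombination_apply, Finsupp.sum]
        rw [TensorProduct.tmul_sum]
        refine Finset.sum_congr rfl fun i _ => ?_
        rw [← hk i, Algebra.TensorProduct.basis_apply, TensorProduct.tmul_smul, algebraMap_smul]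
    · intro h
      rw [h, TensorProduct.tmul_zero] at he
      exact hy0 he.symm
    · rw [he]; exact hyT
  · push Not at hfix
    obtain ⟨σ, i₁, hi₁⟩ := hfix
    have hd : σ.toLinearMap.rTensor V y - y ∈ T := T.sub_mem (hT σ y hyT) hyT
    refine IH _ ?_ _ hd rfl (fun h => ?_)
    · rw [← hN]
      refine Finset.card_lt_card ⟨fun i hi => ?_, fun h => ?_⟩
      · rw [Finsupp.mem_support_iff, map_sub, Finsupp.sub_apply, hσ] at hi
        rw [Finsupp.mem_support_iff]
        intro h0
        apply hi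
        simp [hy, h0]
      · have := h hi₀
        rw [Finsupp.mem_support_iff, map_sub, Finsupp.sub_apply, hσ, hyi, map_one, sub_self] at this
        exact this rfl
    · have := congrArg (fun z => B.repr z i₁) h
      simp only [map_sub, Finsupp.sub_apply, hσ, map_zero, Finsupp.zero_apply, sub_eq_zero] at this
      exact hi₁ this

theorem rTensor_eq_map {A : Type w} [Ring A] [Algebra K A] (σ : L ≃ₐ[K] L) (x : L ⊗[K] A) :
    σ.toLinearMap.rTensor A x = Algebra.TensorProduct.map (σ : L →ₐ[K] L) (AlgHom.id K A) x := by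
  induction x using TensorProduct.induction_on with
  | zero => simp
  | tmul l a => simp
  | add p q hp hq => simp [hp, hq]

theorem atom_transitive {A : Type w} [Ring A] [Algebra K A] [IsSimpleRing A]
    (I J : TwoSidedIdeal (L ⊗[K] A)) (hI : IsAtom I) (hJ : IsAtom J) :
    ∃ γ : L ≃ₐ[K] L, (J : Set (L ⊗[K] A)) =
      Algebra.TensorProduct.map (γ : L →ₐ[K] L) (AlgHom.id K A) '' (I : Set (L ⊗[K] A)) := by
  classical
  let g : (L ≃ₐ[K] L) → (L ⊗[K] A ≃ₐ[K] L ⊗[K] A) := fun γ => Algebra.TensorProduct.congr γ AlgEquiv.refl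
  have hg : ∀ γ x, g γ x = Algebra.TensorProduct.map (γ : L →ₐ[K] L) (AlgHom.id K A) x := fun γ x => rfl
  have hgg : ∀ γ δ x, g γ (g δ x) = g (γ * δ) x := by
    intro γ δ x
    induction x using TensorProduct.induction_on with
    | zero => simp
    | tmul l a => simp [g]
    | add p q hp hq => simp [hp, hq]
  have hg1 : ∀ x, g 1 x = x := by
    intro x
    induction x using TensorProduct.induction_on with
    | zero => simp
    | tmul l a => simp [g]
    | add p q hp hq => simp [hp, hq]
  by_cases hex : ∃ γ, ∀ j ∈ J, (g γ).symm j ∈ I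
  · obtain ⟨γ, hγ⟩ := hex
    refine ⟨γ, ?_⟩
    have hle : TwoSidedIdeal.comap (g γ) J ≤ I := fun x hx => by
      rw [TwoSidedIdeal.mem_comap] at hx
      simpa using hγ _ hx
    have hne : TwoSidedIdeal.comap (g γ) J ≠ ⊥ := by
      intro h
      refine hJ.1 (bot_unique fun j hj => ?_)
      have : (g γ).symm j ∈ TwoSidedIdeal.comap (g γ) J := by
        rw [TwoSidedIdeal.mem_comap, AlgEquiv.apply_symm_apply]; exact hj
      rw [h, TwoSidedIdeal.mem_bot] at this
      rw [TwoSidedIdeal.mem_bot]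
      simpa using congrArg (g γ) this
    have heq : TwoSidedIdeal.comap (g γ) J = I := (hI.le_iff.mp hle).resolve_left hne
    ext x
    constructor
    · intro hx
      refine ⟨(g γ).symm x, hγ x hx, ?_⟩
      rw [← hg, AlgEquiv.apply_symm_apply]
    · rintro ⟨y, hy, rfl⟩
      have : y ∈ TwoSidedIdeal.comap (g γ) J := heq ▸ hy
      rw [TwoSidedIdeal.mem_comap] at this
      rw [← hg]
      exact this
  exfalso
  -- all translates of J annihilate I
  have hzero : ∀ γ, ∀ j ∈ J, ∀ i ∈ I, j * g γ i = 0 := by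
    intro γ j hj i hi
    by_contra hne
    refine hex ⟨γ, ?_⟩
    have hmeet : TwoSidedIdeal.comap (g γ) J ⊓ I ≠ ⊥ := by
      intro h
      apply hne
      have : (g γ).symm (j * g γ i) ∈ TwoSidedIdeal.comap (g γ) J ⊓ I := by
        refine ⟨?_, ?_⟩
        · show (g γ).symm (j * g γ i) ∈ TwoSidedIdeal.comap (g γ) J
          rw [TwoSidedIdeal.mem_comap, AlgEquiv.apply_symm_apply]
          exact J.mul_mem_right _ _ hj
        · show (g γ).symm (j * g γ i) ∈ I
          rw [map_mul, AlgEquiv.symm_apply_apply]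
          exact I.mul_mem_left _ _ hi
      rw [h, TwoSidedIdeal.mem_bot] at this
      simpa using congrArg (g γ) this
    have hle : I ≤ TwoSidedIdeal.comap (g γ) J := inf_eq_right.mp ((hI.le_iff.mp inf_le_right).resolve_left hmeet)
    intro j' hj'
    by_contra hj''
    -- J is minimal, so the image of I is all of J
    have hle' : TwoSidedIdeal.comap ((g γ).symm) I ≤ J := fun x hx => by
      rw [TwoSidedIdeal.mem_comap] at hx
      have := hle hx
      rw [TwoSidedIdeal.mem_comap, AlgEquiv.apply_symm_apply] at this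
      exact this
    have hne' : TwoSidedIdeal.comap ((g γ).symm) I ≠ ⊥ := by
      intro h
      refine hI.1 (bot_unique fun x hx => ?_)
      have : g γ x ∈ TwoSidedIdeal.comap ((g γ).symm) I := by
        rw [TwoSidedIdeal.mem_comap, AlgEquiv.symm_apply_apply]; exact hx
      rw [h, TwoSidedIdeal.mem_bot] at this
      rw [TwoSidedIdeal.mem_bot]
      simpa using congrArg (g γ).symm this
    have heq := (hJ.le_iff.mp hle').resolve_left hne'
    rw [← heq, TwoSidedIdeal.mem_comap] at hj'
    exact hj'' hj'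
  let N : Submodule L (L ⊗[K] A) :=
    { carrier := {x | ∀ γ, ∀ j ∈ J, j * g γ x = 0}
      add_mem' := fun {x y} hx hy γ j hj => by rw [map_add, mul_add, hx γ j hj, hy γ j hj, add_zero]
      zero_mem' := fun γ j _ => by rw [map_zero, mul_zero]
      smul_mem' := fun l x hx γ j hj => by
        have hs : l • x = (l ⊗ₜ[K] (1 : A)) * x := by
          rw [Algebra.smul_def, Algebra.TensorProduct.algebraMap_apply]; simp
        rw [hs, map_mul, ← mul_assoc]
        exact hx γ _ (J.mul_mem_right _ _ hj) }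
  have hN : ∀ x, x ∈ N ↔ ∀ γ, ∀ j ∈ J, j * g γ x = 0 := fun x => Iff.rfl
  have hNne : N ≠ ⊥ := by
    intro h
    refine hI.1 (bot_unique fun x hx => ?_)
    have : x ∈ N := fun γ j hj => hzero γ j hj x hx
    rw [h, Submodule.mem_bot] at this
    rwa [TwoSidedIdeal.mem_bot]
  obtain ⟨a, ha, haN⟩ := exists_fixed_vector N (fun σ x hx γ j hj => by
    rw [rTensor_eq_map, ← hg, hgg]; exact hx _ j hj) hNne
  let Φ : A →+* L ⊗[K] A := (Algebra.TensorProduct.includeRight (R := K) (A := L) (B := A)).toRingHom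
  let S : TwoSidedIdeal A := TwoSidedIdeal.mk' {b | Φ b ∈ N}
    (by show Φ 0 ∈ N; rw [map_zero]; exact N.zero_mem)
    (fun {b c} hb hc => by show Φ (b + c) ∈ N; rw [map_add]; exact N.add_mem hb hc)
    (fun {b} hb => by show Φ (-b) ∈ N; rw [map_neg]; exact N.neg_mem hb)
    (fun {b c} hc => by
      show Φ (b * c) ∈ N
      intro γ j hj
      rw [map_mul, map_mul, ← mul_assoc]
      exact hc γ _ (J.mul_mem_right _ _ hj))
    (fun {b c} hb => by
      show Φ (b * c) ∈ N
      intro γ j hj
      rw [map_mul, map_mul, ← mul_assoc, hb γ j hj, zero_mul])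
  have hSmem : ∀ b : A, b ∈ S ↔ Φ b ∈ N := fun b => TwoSidedIdeal.mem_mk' {b | Φ b ∈ N} _ _ _ _ _ b
  have hS : S = ⊤ := (eq_bot_or_eq_top S).resolve_left fun h => ha (by
    have : a ∈ S := (hSmem a).mpr haN
    rw [h, TwoSidedIdeal.mem_bot] at this
    exact this)
  have h2 : (1 : A) ∈ S := by rw [hS]; exact trivial
  have h1 : Φ 1 ∈ N := (hSmem 1).mp h2
  refine hJ.1 (bot_unique fun j hj => ?_)
  have := h1 1 j hj
  rw [hg1, map_one, mul_one] at this
  rwa [TwoSidedIdeal.mem_bot]

theorem prime_transitive (B : Type w) [CommRing B] [IsDomain B] [Algebra K B] [Algebra.FiniteType K B] :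
    Finite (PrimeSpectrum (TensorProduct K (FractionRing B) L)) ∧
      ∀ P Q : PrimeSpectrum (TensorProduct K (FractionRing B) L), ∃ γ : L ≃ₐ[K] L,
        Q.asIdeal = P.asIdeal.comap
          (Algebra.TensorProduct.map (AlgHom.id K (FractionRing B)) (γ : L →ₐ[K] L)) := by
  classical
  let F := FractionRing B
  haveI : Algebra.EssFiniteType K F := Algebra.EssFiniteType.comp K B F
  haveI hnoe : IsNoetherianRing (L ⊗[K] F) := Algebra.EssFiniteType.isNoetherianRing L _
  let e : F ⊗[K] L ≃ₐ[K] L ⊗[K] F := Algebra.TensorProduct.comm K F L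
  haveI : IsNoetherianRing (F ⊗[K] L) := isNoetherianRing_of_ringEquiv _ e.symm.toRingEquiv
  haveI : Algebra.IsIntegral K L := inferInstance
  haveI hint : Algebra.IsIntegral F (F ⊗[K] L) := inferInstance
  haveI : Ring.KrullDimLE 0 (F ⊗[K] L) := by
    rw [Ring.krullDimLE_zero_iff]
    intro P hP
    refine Ideal.isMaximal_of_isIntegral_of_isMaximal_comap (R := F) P ?_
    have : P.comap (algebraMap F (F ⊗[K] L)) = ⊥ :=
      (Ideal.eq_bot_or_top _).resolve_right (Ideal.comap_ne_top _ hP.ne_top)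
    rw [this]
    exact Ideal.bot_isMaximal
  haveI : IsArtinianRing (F ⊗[K] L) := isArtinianRing_iff_isNoetherianRing_krullDimLE_zero.mpr ⟨inferInstance, inferInstance⟩
  refine ⟨inferInstance, fun P Q => ?_⟩
  let g : (L ≃ₐ[K] L) → (F ⊗[K] L →ₐ[K] F ⊗[K] L) := fun γ => Algebra.TensorProduct.map (AlgHom.id K F) (γ : L →ₐ[K] L)
  have hgg : ∀ γ δ x, g γ (g δ x) = g (γ * δ) x := by
    intro γ δ x
    induction x using TensorProduct.induction_on with
    | zero => simp
    | tmul l a => simp [g]
    | add p q hp hq => simp [hp, hq]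
  let orbit : Set (PrimeSpectrum (F ⊗[K] L)) := Set.range fun γ => PrimeSpectrum.comap (g γ).toRingHom P
  have hfin : orbit.Finite := Set.toFinite _
  let T : Ideal (F ⊗[K] L) := hfin.toFinset.inf PrimeSpectrum.asIdeal
  have hT : ∀ x, x ∈ T ↔ ∀ γ, g γ x ∈ P.asIdeal := by
    intro x
    simp only [T, Submodule.mem_finsetInf, Set.Finite.mem_toFinset]
    exact ⟨fun h γ => h _ ⟨γ, rfl⟩, by rintro h _ ⟨γ, rfl⟩; exact h γ⟩
  have hTbot : T = ⊥ := by
    by_contra hne
    let T' : Submodule L (L ⊗[K] F) :=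
      { carrier := {x | e.symm x ∈ T}
        add_mem' := fun {x y} hx hy => by show e.symm (x + y) ∈ T; rw [map_add]; exact T.add_mem hx hy
        zero_mem' := by show e.symm 0 ∈ T; rw [map_zero]; exact T.zero_mem
        smul_mem' := fun l x hx => by
          show e.symm (l • x) ∈ T
          have hs : l • x = (l ⊗ₜ[K] (1 : F)) * x := by
            clear hx
            induction x using TensorProduct.induction_on with
            | zero => simp
            | tmul a b => simp [TensorProduct.smul_tmul']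
            | add p q hp hq => simp [smul_add, mul_add, hp, hq]
          rw [show e.symm (l • x) = e.symm (l ⊗ₜ[K] (1 : F)) * e.symm x from (congrArg e.symm hs).trans (map_mul _ _ _)]
          exact T.mul_mem_left _ hx }
    have hne' : T' ≠ ⊥ := by
      intro h
      refine hne (bot_unique fun x hx => ?_)
      have : e x ∈ T' := by show e.symm (e x) ∈ T; rwa [AlgEquiv.symm_apply_apply]
      rw [h, Submodule.mem_bot] at this
      simpa using congrArg e.symm this
    have hcomm : ∀ (σ : L ≃ₐ[K] L) x, e.symm (σ.toLinearMap.rTensor F x) = g σ (e.symm x) := by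
      intro σ x
      induction x using TensorProduct.induction_on with
      | zero => simp
      | tmul l a => simp [e, g]
      | add p q hp hq => simp [hp, hq]
    obtain ⟨f, hf, hfT⟩ := exists_fixed_vector T' (fun σ x hx => by
      show e.symm _ ∈ T
      rw [hcomm, hT]
      intro γ
      rw [hgg]
      exact (hT _).mp hx _) hne'
    have h1 := (hT _).mp hfT 1
    have hu : IsUnit (g 1 (e.symm ((1 : L) ⊗ₜ[K] f))) := by
      refine IsUnit.map _ (IsUnit.map _ ?_)
      exact IsUnit.map (Algebra.TensorProduct.includeRight (R := K) (A := L) (B := F)) (Ne.isUnit hf)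
    exact P.2.ne_top (Ideal.eq_top_of_isUnit_mem _ h1 hu)
  obtain ⟨q, hq, hle⟩ := (Ideal.IsPrime.inf_le' Q.2).mp (show T ≤ Q.asIdeal by rw [hTbot]; exact bot_le)
  obtain ⟨γ, rfl⟩ := hfin.mem_toFinset.mp hq
  exact ⟨γ, ((Ideal.isMaximal_iff_isPrime.mpr (PrimeSpectrum.comap (g γ).toRingHom P).2).eq_of_le Q.2.ne_top hle).symm⟩

end Groth.Agent.GalPerm8
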